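import Groth.Agent.MonoEndo26.Core
import Groth.Agent.H8Lim.HomDescent
import Groth.Agent.H8Lim.NoetherianModel

/-! EGA IV 17.9.6: monomorphic endomorphisms of finitely presented schemes are automorphisms. -/

set_option autoImplicit false
set_option backward.isDefEq.respectTransparency.types false
set_option linter.style.haveILetI false
universe u

open CategoryTheory Limits AlgebraicGeometry Opposite

namespace Groth.Agent.MonoEndo26

open Groth.Agent.H8Lim

variable {R : Type u} [CommRing R]

theorem locallyOfFiniteType_terminal (j : (Finset R)ᵒᵖ) :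
    LocallyOfFiniteType (specULiftZIsTerminal.from ((fgSpecDiagram R).obj j)) := by
  let s := j.unop
  let φ : ULift.{u} ℤ →+* fgSub R s := (Int.castRingHom _).comp ULift.ringEquiv.toRingHom
  have e : specULiftZIsTerminal.from ((fgSpecDiagram R).obj j) = Spec.map (CommRingCat.ofHom φ) :=
    specULiftZIsTerminal.hom_ext _ _
  have h1 : (Int.castRingHom (fgSub R s)).FiniteType := by
    haveI : Algebra.FiniteType ℤ (fgSub R s) := .adjoin_of_finite s.finite_toSet
    rw [← RingHom.eq_intCast' (algebraMap ℤ (fgSub R s))]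
    exact RingHom.finiteType_algebraMap.mpr ‹_›
  rw [e]
  exact (HasRingHomProperty.Spec_iff (P := @LocallyOfFiniteType)).mpr
    (h1.comp (RingHom.FiniteType.of_surjective _ ULift.ringEquiv.surjective))

section General

variable {I : Type u} [SmallCategory I] [IsCofiltered I] {D : I ⥤ Scheme.{u}} {c : Cone D}
  [∀ {i j : I} (f : i ⟶ j), IsAffineHom (D.map f)] (hc : IsLimit c)
  [∀ j, IsAffine (D.obj j)] [hZ : ∀ j, LocallyOfFiniteType (specULiftZIsTerminal.from (D.obj j))]

include hc hZ in
/-- A monomorphic endomorphism of the base change of a finitely presented stage is an automorphism. -/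
theorem isIso_of_limit {X Z : Scheme.{u}} {j : I} {f : X ⟶ c.pt} {h : Z ⟶ D.obj j} {q : X ⟶ Z}
    [LocallyOfFinitePresentation h] [QuasiCompact h] [QuasiSeparated h] (sq : IsPullback q f h (c.π.app j))
    (g : X ⟶ X) (hg : g ≫ f = f) [Mono g] : IsIso g := by
  haveI : CompactSpace Z := QuasiCompact.compactSpace_of_compactSpace h
  haveI : QuasiSeparatedSpace Z := quasiSeparatedSpace_of_quasiSeparated h
  have hgf : ∀ {T : Scheme.{u}} (t : c.pt ⟶ T), g ≫ f ≫ t = f ≫ t := fun t => by rw [← Category.assoc, hg]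
  obtain ⟨k, φ, gk, s, hgk, hs1, hs2, hs3⟩ := exists_stage_hom hc (xi := h) (yi := h) sq
    (g ≫ q) (by rw [Category.assoc, sq.w, hgf])
  let g' : pullback h (D.map φ) ⟶ pullback h (D.map φ) :=
    pullback.lift gk (pullback.snd h (D.map φ)) (hgk.trans pullback.condition)
  have hg'1 : g' ≫ pullback.fst h (D.map φ) = gk := pullback.lift_fst _ _ _
  have hg'k : g' ≫ pullback.snd h (D.map φ) = pullback.snd h (D.map φ) := pullback.lift_snd _ _ _
  have e0 : q ≫ h = (f ≫ c.π.app k) ≫ D.map φ := by rw [sq.w, Category.assoc, c.w]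
  have hs : s = pullback.lift q (f ≫ c.π.app k) e0 := by
    apply pullback.hom_ext
    · rw [pullback.lift_fst]; exact hs1
    · rw [pullback.lift_snd]; exact hs2
  have sq' : IsPullback s f (pullback.snd h (D.map φ)) (c.π.app k) := hs ▸ isPullback_later sq φ e0
  have hcomm : s ≫ g' = g ≫ s := by
    apply pullback.hom_ext
    · rw [Category.assoc, Category.assoc, hg'1, hs3, hs1]
    · rw [Category.assoc, Category.assoc, hg'k, hs2, hgf]
  haveI : QuasiCompact (g' ≫ pullback.snd h (D.map φ)) := by rw [hg'k]; infer_instance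
  haveI : QuasiSeparated (g' ≫ pullback.snd h (D.map φ)) := by rw [hg'k]; infer_instance
  haveI : QuasiCompact g' := QuasiCompact.of_comp g' (pullback.snd h (D.map φ))
  haveI : QuasiSeparated g' := QuasiSeparated.of_comp g' (pullback.snd h (D.map φ))
  let xi := pullback.fst g' g' ≫ pullback.snd h (D.map φ)
  have hxi : pullback.snd g' g' ≫ pullback.snd h (D.map φ) = xi := by
    rw [← hg'k, ← Category.assoc, ← pullback.condition, Category.assoc, hg'k]
  haveI : CompactSpace ↥(pullback g' g') := QuasiCompact.compactSpace_of_compactSpace xi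
  haveI : QuasiSeparatedSpace ↥(pullback g' g') := quasiSeparatedSpace_of_quasiSeparated xi
  have sqP := IsPullback.of_hasPullback xi (c.π.app k)
  have w1 : (pullback.fst xi (c.π.app k) ≫ pullback.fst g' g') ≫ pullback.snd h (D.map φ) =
      pullback.snd xi (c.π.app k) ≫ c.π.app k := by
    rw [Category.assoc]; exact sqP.w
  have w2 : (pullback.fst xi (c.π.app k) ≫ pullback.snd g' g') ≫ pullback.snd h (D.map φ) =
      pullback.snd xi (c.π.app k) ≫ c.π.app k := by
    rw [Category.assoc, hxi]; exact sqP.w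
  have huv : sq'.lift _ _ w1 = sq'.lift _ _ w2 := by
    rw [← cancel_mono g]
    apply sq'.hom_ext
    · rw [Category.assoc, Category.assoc, ← hcomm, sq'.lift_fst_assoc, sq'.lift_fst_assoc, Category.assoc,
        Category.assoc, pullback.condition]
    · rw [Category.assoc, Category.assoc, hg, sq'.lift_snd, sq'.lift_snd]
  have heq := congrArg (· ≫ s) huv
  simp only [sq'.lift_fst] at heq
  obtain ⟨l, ψ, hl⟩ := exists_stage_eq hc sqP (yi := pullback.snd h (D.map φ)) (pullback.fst g' g')
    (pullback.snd g' g') rfl hxi heq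
  let hk := pullback.snd h (D.map φ)
  let gl : pullback hk (D.map ψ) ⟶ pullback hk (D.map ψ) :=
    pullback.lift (pullback.fst _ _ ≫ g') (pullback.snd _ _) (by rw [Category.assoc, hg'k]; exact pullback.condition)
  have hgl1 : gl ≫ pullback.fst hk (D.map ψ) = pullback.fst hk (D.map ψ) ≫ g' := pullback.lift_fst _ _ _
  have hgl2 : gl ≫ pullback.snd hk (D.map ψ) = pullback.snd hk (D.map ψ) := pullback.lift_snd _ _ _
  haveI : Mono gl := ⟨fun a b hab => by
    have h2 : a ≫ pullback.snd _ _ = b ≫ pullback.snd _ _ := by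
      have := congrArg (· ≫ pullback.snd hk (D.map ψ)) hab
      simpa only [Category.assoc, hgl2] using this
    have h1 : (a ≫ pullback.fst _ _) ≫ g' = (b ≫ pullback.fst _ _) ≫ g' := by
      have := congrArg (· ≫ pullback.fst hk (D.map ψ)) hab
      simpa only [Category.assoc, hgl1] using this
    have ht : pullback.lift _ _ h1 ≫ xi = (a ≫ pullback.snd hk (D.map ψ)) ≫ D.map ψ := by
      simp only [xi, pullback.lift_fst_assoc, Category.assoc]
      exact congrArg (a ≫ ·) pullback.condition
    have h3 := congrArg (pullback.lift _ _ ht ≫ ·) hl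
    rw [← Category.assoc, pullback.lift_fst, pullback.lift_fst, ← Category.assoc, pullback.lift_fst,
      pullback.lift_snd] at h3
    exact pullback.hom_ext h3 h2⟩
  haveI := hZ l
  haveI : QuasiCompact (specULiftZIsTerminal.from (D.obj l)) := inferInstance
  haveI : IsIso gl := isIso_of_int gl (pullback.snd hk (D.map ψ) ≫ specULiftZIsTerminal.from _)
  have el : s ≫ hk = (f ≫ c.π.app l) ≫ D.map ψ := by rw [sq'.w, Category.assoc, c.w]
  have sq'' := isPullback_later sq' ψ el
  have hcl : pullback.lift s (f ≫ c.π.app l) el ≫ gl = g ≫ pullback.lift s (f ≫ c.π.app l) el := by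
    apply pullback.hom_ext
    · rw [Category.assoc, Category.assoc, hgl1, pullback.lift_fst_assoc, pullback.lift_fst, hcomm]
    · rw [Category.assoc, Category.assoc, hgl2, pullback.lift_snd, hgf]
  have sqg : IsPullback (pullback.lift s (f ≫ c.π.app l) el) g gl (pullback.lift s (f ≫ c.π.app l) el) :=
    IsPullback.of_bot (by rw [hg, hgl2]; exact sq'') hcl sq''
  exact MorphismProperty.of_isPullback (P := MorphismProperty.isomorphisms Scheme.{u}) sqg ‹IsIso gl›

end General

/-- The affine case. -/
theorem isIso_of_affine {X : Scheme.{u}} (f : X ⟶ Spec (CommRingCat.of R))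
    [LocallyOfFinitePresentation f] [QuasiCompact f] [QuasiSeparated f]
    (g : X ⟶ X) (hg : g ≫ f = f) [Mono g] : IsIso g := by
  obtain ⟨j, Z, h, q, _, _, _, sq⟩ := exists_stage_spec (R := R) f
  haveI := fun j => locallyOfFiniteType_terminal (R := R) j
  exact isIso_of_limit (isLimitFgSpecCone R) sq g hg

/-- A monomorphic endomorphism of a finitely presented scheme is an automorphism. -/
theorem isIso_of_mono_endo {X S : Scheme.{u}} (f : X ⟶ S)
    [LocallyOfFinitePresentation f] [QuasiCompact f] [QuasiSeparated f]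
    (g : X ⟶ X) (hg : g ≫ f = f) [Mono g] : IsIso g := by
  refine IsZariskiLocalAtTarget.of_iSup_eq_top (P := MorphismProperty.isomorphisms Scheme.{u})
    (fun U : S.affineOpens => f ⁻¹ᵁ U.1) (by rw [← Scheme.Hom.preimage_iSup, iSup_affineOpens_eq_top]; rfl) fun U => ?_
  change IsIso (g ∣_ (f ⁻¹ᵁ U.1))
  haveI : IsAffine (U.1 : Scheme.{u}) := U.2
  have e : g ⁻¹ᵁ (f ⁻¹ᵁ U.1) = f ⁻¹ᵁ U.1 := by rw [← Scheme.Hom.comp_preimage, hg]
  let h := (X.isoOfEq e).inv ≫ g ∣_ (f ⁻¹ᵁ U.1)
  haveI : Mono (g ∣_ (f ⁻¹ᵁ U.1)) := ⟨fun a b hab => by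
    rw [← cancel_mono (g ⁻¹ᵁ (f ⁻¹ᵁ U.1)).ι, ← cancel_mono g, Category.assoc, Category.assoc,
      ← morphismRestrict_ι, ← Category.assoc, hab, Category.assoc]⟩
  haveI : Mono h := mono_comp _ _
  let f' : (f ⁻¹ᵁ U.1 : Scheme.{u}) ⟶ Spec (CommRingCat.of Γ(U.1, ⊤)) := (f ∣_ U.1) ≫ (U.1 : Scheme.{u}).isoSpec.hom
  have hh : h ≫ f' = f' := by
    simp only [f', ← Category.assoc]
    congr 1
    rw [← cancel_mono U.1.ι]
    simp [h, morphismRestrict_ι, morphismRestrict_ι_assoc, hg]
  haveI : LocallyOfFinitePresentation (f ∣_ U.1) := IsZariskiLocalAtTarget.restrict ‹_› _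
  haveI : QuasiCompact (f ∣_ U.1) := IsZariskiLocalAtTarget.restrict ‹_› _
  haveI : QuasiSeparated (f ∣_ U.1) := IsZariskiLocalAtTarget.restrict ‹_› _
  haveI : LocallyOfFinitePresentation f' := inferInstanceAs (LocallyOfFinitePresentation (_ ≫ _))
  haveI : QuasiCompact f' := inferInstanceAs (QuasiCompact (_ ≫ _))
  haveI : QuasiSeparated f' := inferInstanceAs (QuasiSeparated (_ ≫ _))
  have := isIso_of_affine (R := Γ(U.1, ⊤)) f' h hh
  exact IsIso.of_isIso_comp_left (X.isoOfEq e).inv _

end Groth.Agent.MonoEndo26
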