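import Groth.Agent.MonoEndo26.FlatCrit
import Groth.Agent.ZetaLib.ClosedPts
import Groth.Agent.ZetaLib.PointBound
import Groth.Agent.FlatLocal.StalkCrit
import Groth.Agent.EGA43.FlatDescent.SchemeOpen

/-! Monomorphic endomorphisms of schemes of finite type over the integers are automorphisms. -/

set_option autoImplicit false
set_option backward.isDefEq.respectTransparency.types false
set_option linter.style.haveILetI false
universe u

open CategoryTheory Limits AlgebraicGeometry

namespace Groth.Agent.MonoEndo26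

theorem finite_points {X : Scheme.{u}} (f : X ⟶ Spec (CommRingCat.of (ULift.{u} ℤ))) [LocallyOfFiniteType f]
    [QuasiCompact f] (F : Type u) [Field F] [Finite F] : Finite (Spec (CommRingCat.of F) ⟶ X) := by
  classical
  have : CompactSpace X := QuasiCompact.compactSpace_of_compactSpace f
  let 𝒰 := X.affineCover.finiteSubcover
  have hfin : ∀ i, Finite (Spec (CommRingCat.of F) ⟶ 𝒰.X i) := fun i => by
    let A := Γ(𝒰.X i, ⊤)
    let φ := (Scheme.ΓSpecIso (CommRingCat.of (ULift.{u} ℤ))).inv ≫ (𝒰.f i ≫ f).appTop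
    have h1 : φ.hom.FiniteType := by
      have h3 := (HasRingHomProperty.iff_of_isAffine (P := @LocallyOfFiniteType) (f := 𝒰.f i ≫ f)).mp inferInstance
      rw [CommRingCat.hom_comp]
      exact h3.comp (RingHom.FiniteType.of_surjective _
        (ConcreteCategory.bijective_of_isIso (Scheme.ΓSpecIso (CommRingCat.of (ULift.{u} ℤ))).inv).2)
    let ψ : ℤ →+* A := φ.hom.comp (ULift.ringEquiv (R := ℤ)).symm.toRingHom
    have h4 : ψ.FiniteType := h1.comp (RingHom.FiniteType.of_surjective _ (ULift.ringEquiv (R := ℤ)).symm.surjective)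
    rw [RingHom.eq_intCast' ψ] at h4
    have hft : Algebra.FiniteType ℤ A :=
      RingHom.finiteType_algebraMap.mp ((RingHom.eq_intCast' (algebraMap ℤ A)).symm ▸ h4)
    have := @Groth.Agent.ZetaLib.finite_ringHom A _ hft F _ _
    exact Finite.of_equiv _ (((Iso.homCongr (Iso.refl _) (𝒰.X i).isoSpec).trans
      (Spec.homEquiv : (Spec (CommRingCat.of F) ⟶ Spec A) ≃ (A ⟶ CommRingCat.of F))).trans
      (⟨fun q => q.hom, fun q => ConcreteCategory.ofHom q, fun _ => rfl, fun _ => rfl⟩ :
        (A ⟶ CommRingCat.of F) ≃ (A →+* F))).symm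
  refine Finite.of_surjective (fun x : Σ i, Spec (CommRingCat.of F) ⟶ 𝒰.X i => x.2 ≫ 𝒰.f x.1) fun h => ?_
  obtain ⟨i, y, hy⟩ := 𝒰.exists_eq (h (IsLocalRing.closedPoint F))
  refine ⟨⟨i, IsOpenImmersion.lift (𝒰.f i) h ?_⟩, IsOpenImmersion.lift_fac _ _ _⟩
  rintro _ ⟨z, rfl⟩
  rw [Subsingleton.elim z (IsLocalRing.closedPoint F)]
  exact ⟨y, hy⟩

section Stalk

variable {X Y : Scheme.{u}} (g : X ⟶ Y) [Mono g] [LocallyOfFiniteType g] (x : X)

theorem map_maximalIdeal_stalkMap :
    (IsLocalRing.maximalIdeal (Y.presheaf.stalk (g x))).map (g.stalkMap x).hom =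
      IsLocalRing.maximalIdeal (X.presheaf.stalk x) := by
  haveI : IsIso (pullback.diagonal g) := (pullback.isIso_diagonal_iff g).2 inferInstance
  haveI : FormallyUnramified g := inferInstance
  exact ((FlatLocal.formallyUnramified_stalkMap_iff g x).1
    ((FlatLocal.formallyUnramified_iff_stalkMap g).1 inferInstance x)).2

theorem exists_sub_mem_pow_stalkMap (h : Function.Surjective (g.residueFieldMap x)) (N : ℕ)
    (b : X.presheaf.stalk x) : ∃ a : Y.presheaf.stalk (g x),
      b - g.stalkMap x a ∈ IsLocalRing.maximalIdeal (X.presheaf.stalk x) ^ N := by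
  letI := (g.stalkMap x).hom.toAlgebra
  refine exists_sub_mem_pow _ _ (map_maximalIdeal_stalkMap g x) (fun b => ?_) N b
  obtain ⟨c, hc⟩ := h (X.residue x b)
  obtain ⟨a, rfl⟩ := Y.residue_surjective (g x) c
  refine ⟨a, (IsLocalRing.residue_eq_zero_iff _).1 ?_⟩
  have e := ConcreteCategory.congr_hom (Scheme.residue_residueFieldMap g x) a
  rw [map_sub, sub_eq_zero]
  exact hc.symm.trans e

theorem quotientMap_surjective (h : Function.Surjective (g.residueFieldMap x)) (N : ℕ) :
    ∃ q : Y.presheaf.stalk (g x) ⧸ IsLocalRing.maximalIdeal (Y.presheaf.stalk (g x)) ^ N →+*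
        X.presheaf.stalk x ⧸ IsLocalRing.maximalIdeal (X.presheaf.stalk x) ^ N,
      Function.Surjective q ∧ ∀ a, q (Ideal.Quotient.mk _ a) = Ideal.Quotient.mk _ (g.stalkMap x a) := by
  refine ⟨Ideal.quotientMap _ (g.stalkMap x).hom (Ideal.map_le_iff_le_comap.1 ?_), fun y => ?_, fun a => rfl⟩
  · rw [Ideal.map_pow, map_maximalIdeal_stalkMap]
  · obtain ⟨b, rfl⟩ := Ideal.Quotient.mk_surjective y
    obtain ⟨a, ha⟩ := exists_sub_mem_pow_stalkMap g x h N b
    exact ⟨Ideal.Quotient.mk _ a, (Ideal.Quotient.eq.2 ha).symm⟩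

end Stalk

variable {Z : Scheme.{u}} (g : Z ⟶ Z)

/-- Iterates of an endomorphism. -/
noncomputable def iter : ℕ → (Z ⟶ Z)
  | 0 => 𝟙 Z
  | n + 1 => g ≫ iter n

theorem comp_iter {T : Scheme.{u}} (p : T ⟶ Z) (n : ℕ) :
    p ≫ iter g n = (fun q : T ⟶ Z => q ≫ g)^[n] p := by
  induction n generalizing p with
  | zero => exact Category.comp_id p
  | succ n ih => rw [iter, ← Category.assoc, ih, Function.iterate_succ_apply]

theorem iter_comp_eq {S : Scheme.{u}} (f : Z ⟶ S) (hg : g ≫ f = f) (n : ℕ) : iter g n ≫ f = f := by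
  induction n with
  | zero => exact Category.id_comp f
  | succ n ih => rw [iter, Category.assoc, ih, hg]

instance mono_iter [Mono g] (n : ℕ) : Mono (iter g n) := by
  induction n with
  | zero => exact inferInstanceAs (Mono (𝟙 Z))
  | succ n ih => exact mono_comp g (iter g n)

variable [Mono g]

/-- A monomorphic endomorphism of a scheme of finite type over the integers is an automorphism. -/
theorem isIso_of_int (f : Z ⟶ Spec (CommRingCat.of (ULift.{u} ℤ))) [LocallyOfFiniteType f] [QuasiCompact f] :
    IsIso g := by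
  have hf : ∀ h : Z ⟶ Z, h ≫ f = f := fun h => specULiftZIsTerminal.hom_ext _ _
  haveI hlft : ∀ h : Z ⟶ Z, LocallyOfFiniteType h := fun h => by
    haveI : LocallyOfFiniteType (h ≫ f) := by rw [hf]; infer_instance
    exact locallyOfFiniteType_of_comp h f
  haveI : IsJacobsonRing (ULift.{u} ℤ) := (isJacobsonRing_iso ULift.ringEquiv.symm).mp ZetaLib.isJacobsonRing_int
  haveI : JacobsonSpace Z := LocallyOfFiniteType.jacobsonSpace f
  haveI : IsNoetherianRing (ULift.{u} ℤ) := isNoetherianRing_of_ringEquiv ℤ ULift.ringEquiv.symm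
  haveI : IsLocallyNoetherian Z := LocallyOfFiniteType.isLocallyNoetherian f
  have main : ∀ x : Z, IsClosed ({x} : Set Z) →
      x ∈ Set.range g ∧ (g.stalkMap x).hom.Flat := by
    intro x hx
    haveI := ZetaLib.finite_residueField f x hx
    let F := Z.residueField x
    let p : Spec F ⟶ Z := Z.fromSpecResidueField x
    let post : (Spec F ⟶ Z) → (Spec F ⟶ Z) := fun q => q ≫ g
    haveI : Finite (Spec F ⟶ Z) := finite_points f F
    have hinj : Function.Injective post := fun a b h => (cancel_mono g).1 h
    let e : Equiv.Perm (Spec F ⟶ Z) := Equiv.ofBijective post (Finite.injective_iff_bijective.1 hinj)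
    obtain ⟨n, hn, hp⟩ : ∃ n, 0 < n ∧ post^[n] p = p := by
      refine ⟨orderOf e, orderOf_pos e, ?_⟩
      have h1 : (e ^ orderOf e) p = p := by rw [pow_orderOf_eq_one]; rfl
      rw [Equiv.Perm.coe_pow] at h1
      exact h1
    obtain ⟨n, rfl⟩ := Nat.exists_eq_succ_of_ne_zero hn.ne'
    rw [← comp_iter] at hp
    let k := iter g n
    have hxfix : (g ≫ k) x = x := by
      have h1 := congrArg (fun q : Spec F ⟶ Z => q (IsLocalRing.closedPoint F)) hp
      simp only [p] at h1
      rw [Scheme.Hom.comp_apply, Scheme.fromSpecResidueField_apply] at h1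
      exact h1
    have hk : k (g x) = x := by rw [← Scheme.Hom.comp_apply]; exact hxfix
    refine ⟨?_, ?_⟩
    · refine ⟨(iter g n) x, ?_⟩
      -- `g` commutes with its iterates
      have hcomm : ∀ m, iter g m ≫ g = iter g (m + 1) := fun m => by
        induction m with
        | zero => simp [iter]
        | succ m ih => rw [iter, Category.assoc, ih]; rfl
      rw [← Scheme.Hom.comp_apply, hcomm]
      exact hxfix
    -- residue fields and truncated local rings around the cycle have the same size
    haveI : Finite (Z.residueField (g x)) :=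
      Finite.of_injective _ (g.residueFieldMap x).hom.injective
    haveI : Finite (Z.residueField (k (g x))) :=
      Finite.of_injective _ (k.residueFieldMap (g x)).hom.injective
    have c1 : Nat.card (Z.residueField (k (g x))) ≤ Nat.card (Z.residueField (g x)) :=
      Nat.card_le_card_of_injective _ (k.residueFieldMap (g x)).hom.injective
    have c2 : Nat.card (Z.residueField (g x)) ≤ Nat.card (Z.residueField x) :=
      Nat.card_le_card_of_injective _ (g.residueFieldMap x).hom.injective
    have c3 : Nat.card (Z.residueField (k (g x))) = Nat.card (Z.residueField x) := by rw [hk]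
    have r1 : Function.Surjective (g.residueFieldMap x) :=
      ((Nat.bijective_iff_injective_and_card _).2 ⟨(g.residueFieldMap x).hom.injective, by omega⟩).2
    have r2 : Function.Surjective (k.residueFieldMap (g x)) :=
      ((Nat.bijective_iff_injective_and_card _).2 ⟨(k.residueFieldMap (g x)).hom.injective, by omega⟩).2
    have hbij : ∀ N, (IsLocalRing.maximalIdeal (Z.presheaf.stalk x) ^ N).comap (g.stalkMap x).hom ≤
        IsLocalRing.maximalIdeal (Z.presheaf.stalk (g x)) ^ N := by
      intro N
      obtain ⟨q1, hq1, hq1'⟩ := quotientMap_surjective g x r1 N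
      obtain ⟨q2, hq2, -⟩ := quotientMap_surjective k (g x) r2 N
      have hfin : ∀ z : Z, Finite (Z.residueField z) →
          Finite (Z.presheaf.stalk z ⧸ IsLocalRing.maximalIdeal (Z.presheaf.stalk z) ^ N) := fun z hz => by
        haveI : Finite (Z.presheaf.stalk z ⧸ IsLocalRing.maximalIdeal (Z.presheaf.stalk z)) := hz
        exact Ideal.finite_quotient_pow (IsNoetherian.noetherian _) N
      haveI := hfin (k (g x)) inferInstance
      haveI := hfin (g x) inferInstance
      haveI := hfin x inferInstance
      have d1 := Nat.card_le_card_of_surjective _ hq1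
      have d2 := Nat.card_le_card_of_surjective _ hq2
      have d3 : Nat.card (Z.presheaf.stalk (k (g x)) ⧸ IsLocalRing.maximalIdeal (Z.presheaf.stalk (k (g x))) ^ N) =
          Nat.card (Z.presheaf.stalk x ⧸ IsLocalRing.maximalIdeal (Z.presheaf.stalk x) ^ N) := by rw [hk]
      have hb : Function.Bijective q1 := (Nat.bijective_iff_surjective_and_card _).2 ⟨hq1, by omega⟩
      intro a ha
      rw [← Ideal.Quotient.eq_zero_iff_mem]
      apply hb.1
      rw [map_zero, hq1', Ideal.Quotient.eq_zero_iff_mem]
      exact ha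
    letI := (g.stalkMap x).hom.toAlgebra
    show Module.Flat (Z.presheaf.stalk (g x)) (Z.presheaf.stalk x)
    exact flat_of_comap_pow (IsLocalRing.maximalIdeal _) (IsLocalRing.maximalIdeal _)
      (IsLocalRing.maximalIdeal.isMaximal _).ne_top (map_maximalIdeal_stalkMap g x).le hbij
      (fun N b => exists_sub_mem_pow_stalkMap g x r1 N b)
  haveI : LocallyOfFinitePresentation g := inferInstance
  have closed_univ : ∀ {U : Set Z}, IsOpen U → (∀ x : Z, IsClosed ({x} : Set Z) → x ∈ U) → U = Set.univ := by
    intro U hU h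
    by_contra hne
    obtain ⟨y, hy, hyc⟩ := nonempty_inter_closedPoints (Set.nonempty_compl.2 hne) hU.isClosed_compl.isLocallyClosed
    exact hy (h y hyc)
  have hflat := closed_univ (EGA43.FlatDescent.isOpen_flat_stalkMap g) fun x hx => (main x hx).2
  haveI : Flat g := Flat.of_stalkMap g fun x => Set.eq_univ_iff_forall.1 hflat x
  haveI := IsOpenImmersion.of_flat_of_mono g
  haveI : Surjective g := ⟨fun x => Set.eq_univ_iff_forall.1 (closed_univ g.isOpenEmbedding.isOpen_range fun y hy => (main y hy).1) x⟩
  exact (isIso_iff_isOpenImmersion_and_surjective g).2 ⟨inferInstance, inferInstance⟩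

end Groth.Agent.MonoEndo26
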