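import Mathlib

/-! Flatness of local maps which are bijective modulo all powers of the maximal ideals. -/

set_option autoImplicit false
set_option backward.isDefEq.respectTransparency.types false
set_option linter.style.haveILetI false
universe u

open TensorProduct

namespace Groth.Agent.MonoEndo26

variable {A B : Type u} [CommRing A] [CommRing B] [Algebra A B]

/-- An algebra over a Noetherian ring with the same quotients by all powers is flat. -/
theorem flat_of_comap_pow [IsNoetherianRing A] [IsNoetherianRing B] [IsLocalRing B] (m : Ideal A) (n : Ideal B)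
    (hn : n ≠ ⊤) (hmn : m.map (algebraMap A B) ≤ n)
    (hinj : ∀ N : ℕ, (n ^ N).comap (algebraMap A B) ≤ m ^ N)
    (hsurj : ∀ (N : ℕ) (b : B), ∃ a : A, b - algebraMap A B a ∈ n ^ N) : Module.Flat A B := by
  rw [Module.Flat.iff_lTensor_injective]
  intro J _
  haveI : Module.Finite A J := Module.Finite.iff_fg.2 (IsNoetherian.noetherian J)
  rw [injective_iff_map_eq_zero]
  intro z hz
  obtain ⟨c, hc⟩ := Ideal.exists_pow_inf_eq_pow_smul m (J : Submodule A A)
  -- modulo `n ^ N` every tensor comes from `J`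
  have red : ∀ (N : ℕ) (w : B ⊗[A] J), ∃ j : J, w - (1 : B) ⊗ₜ[A] j ∈ n ^ N • (⊤ : Submodule B (B ⊗[A] J)) := by
    intro N w
    induction w using TensorProduct.induction_on with
    | zero => exact ⟨0, by simp⟩
    | tmul b j =>
      obtain ⟨a, ha⟩ := hsurj N b
      refine ⟨a • j, ?_⟩
      rw [← smul_tmul, Algebra.smul_def, mul_one, ← sub_tmul]
      have : (b - algebraMap A B a) ⊗ₜ[A] j = (b - algebraMap A B a) • ((1 : B) ⊗ₜ[A] j) := by
        rw [smul_tmul', smul_eq_mul, mul_one]
      rw [this]
      exact Submodule.smul_mem_smul ha Submodule.mem_top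
    | add p q hp hq =>
      obtain ⟨j, hj⟩ := hp
      obtain ⟨j', hj'⟩ := hq
      refine ⟨j + j', ?_⟩
      rw [tmul_add, add_sub_add_comm]
      exact add_mem hj hj'
  let Φ : B ⊗[A] J →ₗ[B] B := (TensorProduct.AlgebraTensorModule.rid A B B).toLinearMap ∘ₗ
    TensorProduct.AlgebraTensorModule.lTensor B B (J.subtype)
  have hΦ : ∀ w, Φ w = (TensorProduct.rid A B) (J.subtype.lTensor B w) := fun w => by
    induction w using TensorProduct.induction_on with
    | zero => simp
    | add p q hp hq => simp only [map_add, hp, hq]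
    | tmul b j => simp [Φ]
  have hmap : ∀ (M : ℕ) (j : J), (j : A) ∈ m ^ M • (J : Submodule A A) →
      (1 : B) ⊗ₜ[A] j ∈ n ^ M • (⊤ : Submodule B (B ⊗[A] J)) := by
    intro M j hj
    have hj' : j ∈ m ^ M • (⊤ : Submodule A J) := by
      have : m ^ M • (J : Submodule A A) = (m ^ M • (⊤ : Submodule A J)).map J.subtype := by
        rw [Submodule.map_smul'', Submodule.map_subtype_top]
      rw [this] at hj
      obtain ⟨j₀, hj₀, e⟩ := hj
      rwa [Subtype.ext e] at hj₀
    clear hj
    induction hj' using Submodule.smul_induction_on' with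
    | smul a ha x _ =>
      rw [← smul_tmul, Algebra.smul_def, mul_one,
        show algebraMap A B a ⊗ₜ[A] x = algebraMap A B a • ((1 : B) ⊗ₜ[A] x) by
          rw [smul_tmul', smul_eq_mul, mul_one]]
      refine Submodule.smul_mem_smul (Ideal.pow_right_mono hmn M ?_) Submodule.mem_top
      rw [← Ideal.map_pow]
      exact Ideal.mem_map_of_mem _ ha
    | add x _ y _ hx hy => rw [tmul_add]; exact add_mem hx hy
  have key : ∀ M : ℕ, z ∈ n ^ M • (⊤ : Submodule B (B ⊗[A] J)) := by
    intro M
    obtain ⟨j, hj⟩ := red (M + c) z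
    have hj0 : algebraMap A B (j : A) ∈ n ^ (M + c) := by
      have h1 : Φ (z - (1 : B) ⊗ₜ[A] j) ∈ n ^ (M + c) • (⊤ : Submodule B B) := by
        have := Submodule.mem_map_of_mem (f := Φ) hj
        rw [Submodule.map_smul''] at this
        exact Submodule.smul_mono le_rfl le_top this
      rw [map_sub, hΦ z, hz, map_zero, zero_sub, hΦ, neg_mem_iff] at h1
      simpa [Algebra.smul_def] using h1
    have h2 : (j : A) ∈ m ^ (M + c) • ⊤ ⊓ (J : Submodule A A) := ⟨by simpa using hinj _ hj0, j.2⟩
    rw [hc (M + c) (Nat.le_add_left _ _), Nat.add_sub_cancel] at h2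
    have h3 := hmap M j (Submodule.smul_mono le_rfl inf_le_right h2)
    have hj' : z - (1 : B) ⊗ₜ[A] j ∈ n ^ M • (⊤ : Submodule B (B ⊗[A] J)) :=
      Submodule.smul_mono_left (Ideal.pow_le_pow_right (Nat.le_add_right M c)) hj
    simpa using add_mem hj' h3
  have hbot := n.iInf_pow_smul_eq_bot_of_isLocalRing (M := B ⊗[A] J) hn
  rw [← Submodule.mem_bot B, ← hbot, Submodule.mem_iInf]
  exact key

/-- A map with `m B = n` which is surjective on residue fields is surjective modulo all powers. -/
theorem exists_sub_mem_pow (m : Ideal A) (n : Ideal B) (hmn : m.map (algebraMap A B) = n)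
    (h : ∀ b : B, ∃ a : A, b - algebraMap A B a ∈ n) :
    ∀ (N : ℕ) (b : B), ∃ a : A, b - algebraMap A B a ∈ n ^ N
  | 0, _ => ⟨0, by simp⟩
  | N + 1, b => by
    obtain ⟨a, ha⟩ := h b
    suffices H : ∀ x ∈ n, ∃ a : A, x - algebraMap A B a ∈ n ^ (N + 1) by
      obtain ⟨a', ha'⟩ := H _ ha
      exact ⟨a + a', by rwa [map_add, ← sub_sub]⟩
    intro x hx
    rw [← hmn] at hx
    induction hx using Submodule.span_induction with
    | mem y hy => obtain ⟨a, -, rfl⟩ := hy; exact ⟨a, by simp⟩
    | zero => exact ⟨0, by simp⟩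
    | add p q _ _ hp hq =>
      obtain ⟨a, ha⟩ := hp
      obtain ⟨a', ha'⟩ := hq
      exact ⟨a + a', by rw [map_add, add_sub_add_comm]; exact add_mem ha ha'⟩
    | smul r y hy hp =>
      obtain ⟨a, ha⟩ := hp
      obtain ⟨s, hs⟩ := exists_sub_mem_pow m n hmn h N r
      refine ⟨s * a, ?_⟩
      have hyn : y ∈ n := hmn ▸ hy
      have e : r • y - algebraMap A B (s * a) =
          (r - algebraMap A B s) * y + algebraMap A B s * (y - algebraMap A B a) := by
        rw [smul_eq_mul, map_mul]; ring
      rw [e]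
      refine add_mem ?_ (Ideal.mul_mem_left _ _ ha)
      rw [pow_succ]
      exact Ideal.mul_mem_mul hs hyn

end Groth.Agent.MonoEndo26
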